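import Mathlib.RepresentationTheory.Homological.GroupCohomology.LowDegree
import Mathlib.RepresentationTheory.Rep.Res
import Mathlib.Algebra.Homology.ShortComplex.ShortExact
import Mathlib.Algebra.Homology.ShortComplex.ModuleCat
import Mathlib.GroupTheory.GroupAction.Quotient

/-!
# Extensions of permutation modules and first cohomology of subgroups
-/

set_option autoImplicit false
set_option linter.style.haveILetI false

open CategoryTheory CategoryTheory.Limits groupCohomology
open scoped MonoidAlgebra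

noncomputable section

namespace GrothLib.Coflasque20

variable {k : Type} [CommRing k] {Γ : Type} [Group Γ] {Λ : Rep.{0} k Γ}

/-- All first cohomology classes vanish iff all cocycles are coboundaries. -/
theorem isZero_H1_iff (A : Rep.{0} k Γ) :
    IsZero (groupCohomology A 1) ↔
      ∀ f : Γ → A, (∀ g h : Γ, f (g * h) = A.ρ g (f h) + f g) → ∃ a : A, ∀ g, f g = A.ρ g a - a := by
  constructor
  · intro h f hf
    haveI := ModuleCat.subsingleton_of_isZero h
    have h0 : H1π A ⟨f, (mem_cocycles₁_iff f).2 hf⟩ = 0 := Subsingleton.elim _ _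
    obtain ⟨a, ha⟩ := (H1π_eq_zero_iff _).1 h0
    exact ⟨a, fun g => (congrFun ha g).symm⟩
  · intro h
    refine @ModuleCat.isZero_of_subsingleton _ _ _ (subsingleton_of_forall_eq 0 fun x => ?_)
    refine H1_induction_on x fun c => (H1π_eq_zero_iff c).2 ?_
    obtain ⟨a, ha⟩ := h c ((mem_cocycles₁_iff _).1 c.2)
    exact ⟨a, funext fun g => (ha g).symm⟩

theorem exists_preimage_of_exact {E : ShortComplex (Rep.{0} k Γ)} (hE : E.Exact) {m : E.X₂}
    (hm : E.g.hom m = 0) : ∃ l, E.f.hom l = m := by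
  have h := (ShortComplex.exact_map_iff_of_faithful E (forget₂ (Rep.{0} k Γ) (ModuleCat.{0} k))).2 hE
  rw [ShortComplex.moduleCat_exact_iff] at h
  exact h m hm

section Split

variable (hΛ : ∀ (H : Subgroup Γ), IsZero (groupCohomology (Rep.res H.subtype Λ) 1))
  {X : Type} [MulAction Γ X] {M : Rep.{0} k Γ}
  (f : Λ ⟶ M) (g : M ⟶ Rep.ofMulAction k Γ X) (hf : Function.Injective f.hom)
  (hg : Function.Surjective g.hom) (hfg : ∀ l, g.hom (f.hom l) = 0)
  (hex : ∀ m, g.hom m = 0 → ∃ l, f.hom l = m)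

include hΛ hf hg hfg hex

/-- A basis vector lifts to a vector fixed by its stabiliser. -/
theorem exists_fixed_lift (x : X) :
    ∃ e : M, g.hom e = MonoidAlgebra.single x 1 ∧ ∀ h : Γ, h • x = x → M.ρ h e = e := by
  obtain ⟨e, he⟩ := hg (MonoidAlgebra.single x 1)
  have hl : ∀ h : MulAction.stabilizer Γ x, ∃ l, f.hom l = M.ρ h e - e := fun h => hex _ (by
    rw [map_sub, Rep.hom_comm_apply, he, Representation.ofMulAction_single,
      show (h : Γ) • x = x from h.2, sub_self])
  choose c hc using hl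
  obtain ⟨a, ha⟩ := (isZero_H1_iff (Rep.res (MulAction.stabilizer Γ x).subtype Λ)).1
    (hΛ _) c fun p q => hf (by
      change f.hom (c (p * q)) = f.hom (Λ.ρ (p : Γ) (c q) + c p)
      rw [map_add, Rep.hom_comm_apply, hc, hc, hc, Subgroup.coe_mul, map_mul, map_sub]
      change M.ρ _ (M.ρ _ e) - e = _
      abel)
  refine ⟨e - f.hom a, ?_, fun h hx => ?_⟩
  · have : g.hom (f.hom a) = 0 := hfg a
    rw [map_sub, this, sub_zero, he]
  · have h1 : f.hom (Λ.ρ h a - a) = M.ρ h e - e :=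
      (congrArg f.hom (ha ⟨h, hx⟩)).symm.trans (hc ⟨h, hx⟩)
    rw [map_sub, Rep.hom_comm_apply] at h1
    rw [map_sub, sub_eq_sub_iff_sub_eq_sub]
    exact h1.symm

/-- Such an extension has an equivariant section. -/
theorem exists_section : ∃ σ : Rep.ofMulAction k Γ X ⟶ M, σ ≫ g = 𝟙 _ := by
  choose e he hfix using exists_fixed_lift hΛ f g hf hg hfg hex
  let q : X → Quotient (MulAction.orbitRel Γ X) := Quotient.mk _
  have hq : ∀ x : X, ∃ γ : Γ, γ • (q x).out = x := fun x =>
    MulAction.mem_orbit_iff.1 (MulAction.orbitRel_apply.1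
      (Quotient.exact (Quotient.out_eq (q x)).symm))
  choose γ hγ using hq
  have hqe : ∀ (h : Γ) (x : X), q (h • x) = q x := fun h x => Quotient.sound ⟨h, rfl⟩
  let w : X → M := fun x => M.ρ (γ x) (e (q x).out)
  have hw : ∀ (h : Γ) (x : X), M.ρ h (w x) = w (h • x) := fun h x => by
    simp only [w, hqe]
    have hst : ((γ (h • x))⁻¹ * (h * γ x)) • (q x).out = (q x).out := by
      rw [mul_smul, mul_smul, hγ, inv_smul_eq_iff]
      have := hγ (h • x)
      rw [hqe] at this
      exact this.symm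
    have h2 := congrArg (M.ρ (γ (h • x))) (hfix _ _ hst)
    rw [← Module.End.mul_apply, ← map_mul, mul_inv_cancel_left, map_mul, Module.End.mul_apply] at h2
    exact h2
  let L : k[X] →ₗ[k] M :=
    (Finsupp.linearCombination k w) ∘ₗ (MonoidAlgebra.coeffLinearEquiv k).toLinearMap
  have hL : ∀ x r, L (MonoidAlgebra.single x r) = r • w x := fun x r => by simp [L]
  refine ⟨Rep.ofHom ⟨L, fun h => ?_⟩, Rep.hom_ext ?_⟩
  · refine MonoidAlgebra.lhom_ext' fun x => LinearMap.ext fun r => ?_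
    simp [hL, hw]
  · refine Representation.IntertwiningMap.ext
      (MonoidAlgebra.lhom_ext' fun x => LinearMap.ext fun r => ?_)
    change g.hom (L (MonoidAlgebra.single x r)) = MonoidAlgebra.single x r
    rw [hL, map_smul]
    simp only [w]
    erw [Rep.hom_comm_apply, he, Representation.ofMulAction_single, hγ]
    rw [MonoidAlgebra.smul_single', mul_one]

end Split

section Twist

variable (Γ' : Subgroup Γ) (c : Γ' → Λ)

theorem sec_mem (g : Γ) (x : Γ ⧸ Γ') : ((g • x).out)⁻¹ * (g * x.out) ∈ Γ' := by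
  rw [← QuotientGroup.eq, QuotientGroup.out_eq']
  conv_lhs => rw [← QuotientGroup.out_eq' x]
  rfl

/-- The twisting cochain. -/
def twist (g : Γ) (x : Γ ⧸ Γ') : Λ := Λ.ρ (g • x).out (c ⟨_, sec_mem Γ' g x⟩)

variable {Γ' c} (hc : ∀ a b : Γ', c (a * b) = Λ.ρ (a : Γ) (c b) + c a)

include hc in
theorem twist_mul (g h : Γ) (x : Γ ⧸ Γ') :
    twist Γ' c (g * h) x = twist Γ' c g (h • x) + Λ.ρ g (twist Γ' c h x) := by
  have he : (⟨_, sec_mem Γ' (g * h) x⟩ : Γ') =
      ⟨_, sec_mem Γ' g (h • x)⟩ * ⟨_, sec_mem Γ' h x⟩ := Subtype.ext (by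
    simp only [Subgroup.coe_mul, mul_smul]
    group)
  simp only [twist]
  rw [he, hc, map_add, ← Module.End.mul_apply, ← map_mul, ← Module.End.mul_apply (Λ.ρ g), ← map_mul,
    mul_smul, add_comm]
  congr 3
  group

/-- The twisting cochain on the permutation module. -/
def twistLin (Γ' : Subgroup Γ) (c : Γ' → Λ) (g : Γ) : k[Γ ⧸ Γ'] →ₗ[k] Λ :=
  (Finsupp.linearCombination k (twist Γ' c g)) ∘ₗ (MonoidAlgebra.coeffLinearEquiv k).toLinearMap

theorem twistLin_single (Γ' : Subgroup Γ) (c : Γ' → Λ) (g : Γ) (x : Γ ⧸ Γ') (r : k) :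
    twistLin Γ' c g (MonoidAlgebra.single x r) = r • twist Γ' c g x := by simp [twistLin]

include hc in
theorem twistLin_mul (g h : Γ) (v : k[Γ ⧸ Γ']) :
    twistLin Γ' c (g * h) v = twistLin Γ' c g (Representation.ofMulAction k Γ (Γ ⧸ Γ') h v) +
      Λ.ρ g (twistLin Γ' c h v) := by
  refine LinearMap.congr_fun (MonoidAlgebra.lhom_ext' (f := twistLin Γ' c (g * h))
    (g := twistLin Γ' c g ∘ₗ Representation.ofMulAction k Γ (Γ ⧸ Γ') h + Λ.ρ g ∘ₗ twistLin Γ' c h)
    fun x => LinearMap.ext fun r => ?_) v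
  simp [twistLin_single, twist_mul hc]

include hc in
theorem twist_one (x : Γ ⧸ Γ') : twist Γ' c 1 x = 0 := by
  have := twist_mul hc 1 1 x
  rw [one_smul, mul_one, map_one, Module.End.one_apply] at this
  exact left_eq_add.1 this

/-- The extension of the permutation module defined by a cocycle of the subgroup. -/
def extRho : Representation k Γ (Λ × k[Γ ⧸ Γ']) where
  toFun g := LinearMap.prod
    (Λ.ρ g ∘ₗ LinearMap.fst k Λ _ + twistLin Γ' c g ∘ₗ LinearMap.snd k Λ _)
    (Representation.ofMulAction k Γ (Γ ⧸ Γ') g ∘ₗ LinearMap.snd k Λ _)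
  map_one' := by
    refine LinearMap.prod_ext (LinearMap.ext fun l => ?_) (MonoidAlgebra.lhom_ext' fun x => LinearMap.ext fun r => ?_)
    · simp
    · simp [twistLin_single, twist_one hc]
  map_mul' g h := LinearMap.ext fun p => by
    refine Prod.ext ?_ ?_
    · change Λ.ρ (g * h) p.1 + twistLin Γ' c (g * h) p.2 = Λ.ρ g (Λ.ρ h p.1 + twistLin Γ' c h p.2) +
        twistLin Γ' c g (Representation.ofMulAction k Γ (Γ ⧸ Γ') h p.2)
      rw [twistLin_mul hc, map_mul, Module.End.mul_apply, map_add]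
      abel
    · change Representation.ofMulAction k Γ (Γ ⧸ Γ') (g * h) p.2 = _
      rw [map_mul, Module.End.mul_apply]
      rfl

/-- The extension as a short complex. -/
def extSeq : ShortComplex (Rep.{0} k Γ) :=
  ShortComplex.mk (X₁ := Λ) (X₂ := Rep.of (extRho hc)) (X₃ := Rep.ofMulAction k Γ (Γ ⧸ Γ'))
    (Rep.ofHom (ρ := Λ.ρ) (σ := extRho hc) ⟨LinearMap.inl k Λ _, fun g => LinearMap.ext fun l => by
      simp [extRho]⟩)
    (Rep.ofHom (ρ := extRho hc) (σ := Representation.ofMulAction k Γ (Γ ⧸ Γ'))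
      ⟨LinearMap.snd k Λ _, fun g => LinearMap.ext fun p => rfl⟩)
    (Rep.hom_ext (Representation.IntertwiningMap.ext (LinearMap.ext fun _ => rfl)))

theorem shortExact_extSeq : (extSeq hc).ShortExact where
  exact := by
    rw [← ShortComplex.exact_map_iff_of_faithful _ (forget₂ (Rep.{0} k Γ) (ModuleCat.{0} k)),
      ShortComplex.moduleCat_exact_iff]
    intro p hp
    exact ⟨(p : Λ × k[Γ ⧸ Γ']).1, Prod.ext rfl hp.symm⟩
  mono_f := (Rep.mono_iff_injective _).2 LinearMap.inl_injective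
  epi_g := (Rep.epi_iff_surjective _).2 LinearMap.snd_surjective

include hc in
/-- If the extension splits, the cocycle is a coboundary. -/
theorem isCoboundary_of_splitting (s : (extSeq hc).Splitting) :
    ∃ a : Λ, ∀ h : Γ', c h = Λ.ρ (h : Γ) a - a := by
  let x₀ : Γ ⧸ Γ' := ((1 : Γ) : Γ ⧸ Γ')
  let t : Γ := x₀.out
  have ht : t ∈ Γ' := by
    have := QuotientGroup.eq.1 (QuotientGroup.out_eq' x₀)
    rw [mul_one] at this
    exact inv_mem_iff.1 this
  let p : Λ × k[Γ ⧸ Γ'] := s.s.hom (MonoidAlgebra.single x₀ (1 : k))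
  have hp2 : p.2 = MonoidAlgebra.single x₀ (1 : k) :=
    congrArg (fun φ : (extSeq hc).X₃ ⟶ (extSeq hc).X₃ => φ.hom (MonoidAlgebra.single x₀ (1 : k))) s.s_g
  refine ⟨-(p.1 + c ⟨t, ht⟩), fun h => ?_⟩
  have hx : (h : Γ) • x₀ = x₀ := by
    change ((h * 1 : Γ) : Γ ⧸ Γ') = ((1 : Γ) : Γ ⧸ Γ')
    rw [QuotientGroup.eq]
    simp
  have e1 : (extRho hc) (h : Γ) p = p := by
    have := Rep.hom_comm_apply s.s (h : Γ) (MonoidAlgebra.single x₀ (1 : k))
    erw [Representation.ofMulAction_single, hx] at this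
    exact this.symm
  have e2 : Λ.ρ (h : Γ) p.1 + twistLin Γ' c h p.2 = p.1 := congrArg Prod.fst e1
  rw [hp2, twistLin_single, one_smul] at e2
  have e3 : twist Γ' c (h : Γ) x₀ = Λ.ρ t (c (⟨t, ht⟩⁻¹ * (h * ⟨t, ht⟩))) := by
    simp only [twist]
    congr 1
    · rw [hx]
    · congr 1
      exact Subtype.ext (by simp [hx, t])
  rw [e3, hc, hc] at e2
  have e4 : c 1 = 0 := by
    have := hc 1 1
    rw [mul_one, OneMemClass.coe_one, map_one, Module.End.one_apply] at this
    exact left_eq_add.1 this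
  have e5 : Λ.ρ t (c ⟨t, ht⟩⁻¹) = - c ⟨t, ht⟩ := by
    have := hc ⟨t, ht⟩ ⟨t, ht⟩⁻¹
    rw [mul_inv_cancel, e4] at this
    exact eq_neg_of_add_eq_zero_left this.symm
  rw [map_add, e5, ← Module.End.mul_apply, ← map_mul] at e2
  simp only [InvMemClass.coe_inv, mul_inv_cancel, map_one, Module.End.one_apply] at e2
  rw [map_neg, map_add]
  linear_combination (norm := abel) e2

end Twist

end GrothLib.Coflasque20
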